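import Cfsg.Agent.Lib.Helper93.J1CentIso

/-!
# `J₁` has order 175560 and is simple
-/

set_option autoImplicit false

namespace Cfsg.Agent.Lib.Helper93.J1

theorem card_J1_le : Nat.card ↥Cfsg.Spor.J1 ≤ 175560 := by
  have key : ∀ g : ↥Cfsg.Spor.J1, ∃ ij : Fin 1463 × Fin 120,
      ((g : GL (Fin 7) (ZMod 11)) : M7) = toM (U ij.1) * toM (H ij.2) := by
    intro g
    obtain ⟨i, hi, j, hj, e⟩ := mem_T g g.2
    exact ⟨(⟨i, hi⟩, ⟨j, hj⟩), e⟩
  choose f hf using key
  have hinj : Function.Injective f := by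
    intro a b hab
    apply ext_val
    rw [hf a, hf b, hab]
  have := Nat.card_le_card_of_injective f hinj
  simpa using this

theorem nat_aux (n : ℕ) (hpos : 0 < n) (hle : n ≤ 175560) (h120 : 120 ∣ n) (d7 : 7 ∣ n) (d11 : 11 ∣ n)
    (d19 : 19 ∣ n) : n = 175560 := by
  obtain ⟨a, rfl⟩ := h120
  have d7' : 7 ∣ a := (Nat.Coprime.dvd_mul_left (by norm_num)).1 d7
  obtain ⟨b, rfl⟩ := d7'
  have d11' : 11 ∣ b := by
    have : 11 ∣ 840 * b := by
      have e : 120 * (7 * b) = 840 * b := by ring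
      rwa [e] at d11
    exact (Nat.Coprime.dvd_mul_left (by norm_num)).1 this
  obtain ⟨c, rfl⟩ := d11'
  have d19' : 19 ∣ c := by
    have : 19 ∣ 9240 * c := by
      have e : 120 * (7 * (11 * c)) = 9240 * c := by ring
      rwa [e] at d19
    exact (Nat.Coprime.dvd_mul_left (by norm_num)).1 this
  obtain ⟨d, rfl⟩ := d19'
  omega

theorem card_J1 : Nat.card ↥Cfsg.Spor.J1 = 175560 := by
  have h120 : 120 ∣ Nat.card ↥Cfsg.Spor.J1 := by
    have := Subgroup.card_subgroup_dvd_card (Subgroup.centralizer ({tJ} : Set ↥Cfsg.Spor.J1))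
    rwa [card_centralizer] at this
  obtain ⟨g7, h7⟩ := ex7
  obtain ⟨g11, h11⟩ := ex11
  obtain ⟨g19, h19⟩ := ex19
  have d7 : 7 ∣ Nat.card ↥Cfsg.Spor.J1 := by
    have := orderOf_dvd_natCard g7
    rwa [h7] at this
  have d11 : 11 ∣ Nat.card ↥Cfsg.Spor.J1 := by
    have := orderOf_dvd_natCard g11
    rwa [h11] at this
  have d19 : 19 ∣ Nat.card ↥Cfsg.Spor.J1 := by
    have := orderOf_dvd_natCard g19
    rwa [h19] at this
  have hpos : 0 < Nat.card ↥Cfsg.Spor.J1 := Nat.card_pos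
  have hle := card_J1_le
  exact nat_aux _ hpos hle h120 d7 d11 d19

/-- if `p` divides `|N|` but `p²` does not divide `|G|`, then `N` contains all elements of order `p`. -/
theorem mem_of_dvd_card {G : Type*} [Group G] [Finite G] (N : Subgroup G) [N.Normal] (p : ℕ) (hp : p.Prime)
    (h1 : p ∣ Nat.card N) (h2 : ¬ p ^ 2 ∣ Nat.card G) (r : G) (hr : r ^ p = 1) : r ∈ N := by
  have hc := Subgroup.card_eq_card_quotient_mul_card_subgroup N
  have hcop : Nat.Coprime p (Nat.card (G ⧸ N)) := by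
    rw [Nat.Prime.coprime_iff_not_dvd hp]
    intro h
    apply h2
    rw [hc, pow_two]
    exact Nat.mul_dvd_mul h h1
  rw [← QuotientGroup.eq_one_iff]
  have a1 : ((r : G ⧸ N)) ^ p = 1 := by rw [← QuotientGroup.mk_pow, hr]; rfl
  have a2 : ((r : G ⧸ N)) ^ Nat.card (G ⧸ N) = 1 := pow_card_eq_one'
  have d1 := orderOf_dvd_of_pow_eq_one a1
  have d2 := orderOf_dvd_of_pow_eq_one a2
  have := Nat.dvd_gcd d1 d2
  rw [hcop.gcd_eq_one, Nat.dvd_one] at this
  exact orderOf_eq_one_iff.1 this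

theorem step (N : Subgroup ↥Cfsg.Spor.J1) [hN : N.Normal] {r b b' : ℕ} (hr : InJ r) (hb : InJ b) (hb' : InJ b')
    (e : mulC b b' = oneC) (h : el r hr ∈ N) :
    el (mulC r (mulC (mulC b r) b')) (hr.mul ((hb.mul hr).mul hb')) ∈ N := by
  have h1 : el b' hb' = (el b hb)⁻¹ := by
    apply eq_inv_of_mul_eq_one_right
    rw [el_mul]; exact el_eq_one _ e
  have h2 : el (mulC r (mulC (mulC b r) b')) (hr.mul ((hb.mul hr).mul hb'))
      = el r hr * (el b hb * el r hr * (el b hb)⁻¹) := by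
    rw [← h1, el_mul, el_mul, el_mul]
  rw [h2]
  exact N.mul_mem h (hN.conj_mem _ h _)

theorem dvd_of_mem (N : Subgroup ↥Cfsg.Spor.J1) {c : ℕ} (hc : InJ c) (h : el c hc ∈ N) (q : ℕ) [Fact q.Prime]
    (h1 : powC c q = oneC) (h2 : toM c ≠ 1) : q ∣ Nat.card N := by
  have : orderOf (el c hc) = q := by
    apply orderOf_eq_prime
    · rw [el_pow hc q (inJ_powC hc q)]; exact el_eq_one _ h1
    · exact el_ne_one hc h2
  rw [← this]
  exact Subgroup.orderOf_dvd_natCard N h

def r3c : ℕ := evalW [false, true, true, true, false, true, true, true]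
def r11c : ℕ := evalW [false, true, true]
def r19c : ℕ := evalW [false, false, false, true]
def X6c : ℕ := powC Xc 6
def Y4c : ℕ := powC Yc 4

theorem inJ_X6 : InJ X6c := inJ_powC inJ_X 6
theorem inJ_Y4 : InJ Y4c := inJ_powC inJ_Y 4
theorem inJ_r3 : InJ r3c := inJ_evalW _
theorem inJ_r11 : InJ r11c := inJ_evalW _
theorem inJ_r19 : InJ r19c := inJ_evalW _

instance fact19 : Fact (Nat.Prime 19) := ⟨by norm_num⟩
instance fact7 : Fact (Nat.Prime 7) := ⟨by norm_num⟩
instance fact5 : Fact (Nat.Prime 5) := ⟨by norm_num⟩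

theorem el_mem (N : Subgroup ↥Cfsg.Spor.J1) [N.Normal] (p : ℕ) (hp : p.Prime) (h1 : p ∣ Nat.card N)
    (h2 : ¬ p ^ 2 ∣ 175560) {c : ℕ} (hc : InJ c) (h3 : powC c p = oneC) : el c hc ∈ N := by
  apply mem_of_dvd_card N p hp h1 (by rw [card_J1]; exact h2)
  rw [el_pow hc p (inJ_powC hc p)]; exact el_eq_one _ h3

theorem d19_of_7 (N : Subgroup ↥Cfsg.Spor.J1) [N.Normal] (h : 7 ∣ Nat.card N) : 19 ∣ Nat.card N :=
  dvd_of_mem N _ (step N inJ_X (inJ_Y.mul inJ_Y) (inJ_Y4.mul inJ_Y4) (by decide +kernel)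
    (el_mem N 7 (by norm_num) h (by norm_num) inJ_X (by decide +kernel))) 19
    (by decide +kernel) (by decide +kernel)

theorem d19_of_5 (N : Subgroup ↥Cfsg.Spor.J1) [N.Normal] (h : 5 ∣ Nat.card N) : 19 ∣ Nat.card N :=
  dvd_of_mem N _ (step N inJ_Y inJ_X inJ_X6 (by decide +kernel)
    (el_mem N 5 (by norm_num) h (by norm_num) inJ_Y (by decide +kernel))) 19
    (by decide +kernel) (by decide +kernel)

theorem d19_of_3 (N : Subgroup ↥Cfsg.Spor.J1) [N.Normal] (h : 3 ∣ Nat.card N) : 19 ∣ Nat.card N :=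
  dvd_of_mem N _ (step N inJ_r3 (inJ_Y.mul inJ_X) (inJ_X6.mul inJ_Y4) (by decide +kernel)
    (el_mem N 3 (by norm_num) h (by norm_num) inJ_r3 (by decide +kernel))) 19
    (by decide +kernel) (by decide +kernel)

theorem d19_of_11 (N : Subgroup ↥Cfsg.Spor.J1) [N.Normal] (h : 11 ∣ Nat.card N) : 19 ∣ Nat.card N :=
  dvd_of_mem N _ (step N inJ_r11 inJ_X inJ_X6 (by decide +kernel)
    (el_mem N 11 (by norm_num) h (by norm_num) inJ_r11 (by decide +kernel))) 19
    (by decide +kernel) (by decide +kernel)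

theorem d5_of_19 (N : Subgroup ↥Cfsg.Spor.J1) [N.Normal] (h : 19 ∣ Nat.card N) : 5 ∣ Nat.card N :=
  dvd_of_mem N _ (step N inJ_r19 inJ_X inJ_X6 (by decide +kernel)
    (el_mem N 19 (by norm_num) h (by norm_num) inJ_r19 (by decide +kernel))) 5
    (by decide +kernel) (by decide +kernel)

theorem d7_of_19 (N : Subgroup ↥Cfsg.Spor.J1) [N.Normal] (h : 19 ∣ Nat.card N) : 7 ∣ Nat.card N :=
  dvd_of_mem N _ (step N inJ_r19 ((inJ_X.mul inJ_Y).mul inJ_X) ((inJ_X6.mul inJ_Y4).mul inJ_X6)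
    (by decide +kernel)
    (el_mem N 19 (by norm_num) h (by norm_num) inJ_r19 (by decide +kernel))) 7
    (by decide +kernel) (by decide +kernel)

theorem eq_top_of_19 (N : Subgroup ↥Cfsg.Spor.J1) [N.Normal] (h : 19 ∣ Nat.card N) : N = ⊤ := by
  have hX := el_mem N 7 (by norm_num) (d7_of_19 N h) (by norm_num) inJ_X (by decide +kernel)
  have hY := el_mem N 5 (by norm_num) (d5_of_19 N h) (by norm_num) inJ_Y (by decide +kernel)
  have hX' : ((el Xc inJ_X : ↥Cfsg.Spor.J1) : GL (Fin 7) (ZMod 11)) = Cfsg.Spor.jankoX := by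
    apply Units.ext
    rw [el_val, toM_Xc]; rfl
  have hY' : ((el Yc inJ_Y : ↥Cfsg.Spor.J1) : GL (Fin 7) (ZMod 11)) = Cfsg.Spor.jankoY := by
    apply Units.ext
    rw [el_val, toM_Yc]; rfl
  rw [eq_top_iff]
  intro g _
  have hle : Cfsg.Spor.J1 ≤ N.map (Subgroup.subtype _) := by
    unfold Cfsg.Spor.J1
    rw [Subgroup.closure_le]
    intro s hs
    rcases hs with rfl | rfl
    · exact ⟨_, hX, hX'⟩
    · exact ⟨_, hY, hY'⟩
  obtain ⟨g', hg', e⟩ := hle g.2
  have : g' = g := Subtype.ext e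
  rwa [← this]

theorem commute_of_zpow {G : Type*} [Group G] (g n : G) (h19 : g ^ 19 = 1) (d : ℤ) (hd : ¬ (19 : ℤ) ∣ d)
    (hc : Commute (g ^ d) n) : Commute g n := by
  have hcop : IsCoprime d 19 := by
    have hp : Prime (19 : ℤ) := by norm_num
    exact ((hp.coprime_iff_not_dvd).2 hd).symm
  obtain ⟨u, v, e⟩ := hcop
  have : g = (g ^ d) ^ u := by
    rw [← zpow_mul]
    have e2 : d * u = 1 - v * 19 := by linarith
    rw [e2, zpow_sub, zpow_one, mul_comm v, zpow_mul]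
    have : g ^ (19 : ℤ) = 1 := by exact_mod_cast h19
    rw [this, one_zpow, inv_one, mul_one]
  rw [this]
  exact hc.zpow_left u

theorem simple_J1 : IsSimpleGroup ↥Cfsg.Spor.J1 := by
  have : Nontrivial ↥Cfsg.Spor.J1 := by
    rw [← Finite.one_lt_card_iff_nontrivial, card_J1]; norm_num
  refine ⟨fun N hN => ?_⟩
  by_cases hodd : ∃ p : ℕ, p.Prime ∧ p ≠ 2 ∧ p ∣ Nat.card N
  · right
    obtain ⟨p, hp, hp2, hd⟩ := hodd
    have hdG : p ∣ 2 ^ 3 * 3 * 5 * 7 * 11 * 19 := by
      have := hd.trans (Subgroup.card_subgroup_dvd_card N)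
      rw [card_J1] at this
      exact this
    have pe : ∀ q : ℕ, q.Prime → p ∣ q → p = q := fun q hq h => (Nat.prime_dvd_prime_iff_eq hp hq).1 h
    rcases (Nat.Prime.dvd_mul hp).1 hdG with h | h
    · rcases (Nat.Prime.dvd_mul hp).1 h with h | h
      · rcases (Nat.Prime.dvd_mul hp).1 h with h | h
        · rcases (Nat.Prime.dvd_mul hp).1 h with h | h
          · rcases (Nat.Prime.dvd_mul hp).1 h with h | h
            · exact absurd (pe 2 (by norm_num) (hp.dvd_of_dvd_pow h)) hp2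
            · have := pe 3 (by norm_num) h
              subst this
              exact eq_top_of_19 N (d19_of_3 N hd)
          · have := pe 5 (by norm_num) h
            subst this
            exact eq_top_of_19 N (d19_of_5 N hd)
        · have := pe 7 (by norm_num) h
          subst this
          exact eq_top_of_19 N (d19_of_7 N hd)
      · have := pe 11 (by norm_num) h
        subst this
        exact eq_top_of_19 N (d19_of_11 N hd)
    · have := pe 19 (by norm_num) h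
      subst this
      exact eq_top_of_19 N hd
  · left
    by_contra hbot
    push Not at hodd
    have hcop : Nat.Coprime (Nat.card N) 21945 := by
      apply Nat.coprime_of_dvd
      intro k hk hkN hk2
      by_cases h2 : k = 2
      · subst h2
        revert hk2; norm_num
      · exact hodd k hk h2 hkN
    have h8 : Nat.card N ∣ 8 := by
      have := Subgroup.card_subgroup_dvd_card N
      rw [card_J1, show 175560 = 8 * 21945 by norm_num] at this
      exact hcop.dvd_of_dvd_mul_right this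
    have hle : Nat.card N ≤ 8 := Nat.le_of_dvd (by norm_num) h8
    obtain ⟨⟨n, hnN⟩, hn1'⟩ := Subgroup.ne_bot_iff_exists_ne_one.1 hbot
    have hn1 : n ≠ 1 := fun h => hn1' (Subtype.ext h)
    obtain ⟨g, hg⟩ := ex19
    have hg19 : g ^ 19 = 1 := by rw [← hg]; exact pow_orderOf_eq_one g
    let φ : Fin 19 → N := fun k => ⟨g ^ (k : ℕ) * n * (g ^ (k : ℕ))⁻¹, hN.conj_mem n hnN _⟩
    have hni : ¬ Function.Injective φ := by
      intro hi
      have := Nat.card_le_card_of_injective φ hi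
      simp only [Nat.card_eq_fintype_card, Fintype.card_fin] at this
      omega
    simp only [Function.Injective, not_forall] at hni
    obtain ⟨a, b, hab, hne⟩ := hni
    have hab' : g ^ (a : ℕ) * n * (g ^ (a : ℕ))⁻¹ = g ^ (b : ℕ) * n * (g ^ (b : ℕ))⁻¹ :=
      congrArg Subtype.val hab
    have hcomm : Commute (g ^ ((b : ℤ) - (a : ℤ))) n := by
      unfold Commute SemiconjBy
      rw [zpow_sub, zpow_natCast, zpow_natCast]
      have hgg : Commute (g ^ (b : ℕ)) ((g ^ (a : ℕ))⁻¹) := ((Commute.refl g).pow_pow _ _).inv_right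
      have e1 : n = (g ^ (a : ℕ))⁻¹ * (g ^ (b : ℕ) * n * (g ^ (b : ℕ))⁻¹) * g ^ (a : ℕ) := by
        rw [← hab']; group
      calc g ^ (b : ℕ) * (g ^ (a : ℕ))⁻¹ * n = (g ^ (a : ℕ))⁻¹ * (g ^ (b : ℕ) * n * (g ^ (b : ℕ))⁻¹) * g ^ (b : ℕ) := by
            rw [hgg.eq]; group
        _ = (g ^ (a : ℕ))⁻¹ * (g ^ (b : ℕ) * n * (g ^ (b : ℕ))⁻¹) * g ^ (a : ℕ) * ((g ^ (a : ℕ))⁻¹ * g ^ (b : ℕ)) := by
            group
        _ = n * (g ^ (b : ℕ) * (g ^ (a : ℕ))⁻¹) := by rw [← e1, hgg.eq]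
    have hd : ¬ (19 : ℤ) ∣ ((b : ℤ) - (a : ℤ)) := by
      intro h
      apply hne
      have ha := a.2
      have hb := b.2
      apply Fin.ext
      omega
    have hc := commute_of_zpow g n hg19 _ hd hcomm
    have hm8 : orderOf n ∣ 8 := (Subgroup.orderOf_dvd_natCard N hnN).trans h8
    have hcop2 : Nat.Coprime (orderOf g) (orderOf n) := by
      rw [hg]
      exact Nat.Coprime.coprime_dvd_right hm8 (by norm_num)
    have ho := hc.orderOf_mul_eq_mul_orderOf_of_coprime hcop2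
    have hs : orderOf (g * n) ∈ Set.range (orderOf : ↥Cfsg.Spor.J1 → ℕ) := ⟨_, rfl⟩
    rw [range_orderOf, ho, hg] at hs
    have hn1'' : orderOf n ≠ 1 := fun h => hn1 (orderOf_eq_one_iff.1 h)
    simp only [Finset.coe_insert, Finset.coe_singleton, Set.mem_insert_iff, Set.mem_singleton_iff] at hs
    omega

end Cfsg.Agent.Lib.Helper93.J1
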