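import Mathlib
import Cfsg.Agent.Lib.Helper93.ZStarFusion

set_option autoImplicit false

namespace Cfsg.Agent.Lib.Helper93

open Subgroup

universe u v

/-- For an abelian Sylow subgroup `S` and `e ∈ S`, the product `w` of the conjugates of `e` over
`N(S)/S` is fixed by `N(S)`, and maps to `f e ^ m` (`m = |N(S):S|`) under each homomorphism `f`
to a commutative group. -/
theorem exists_normalizer_fixed {G : Type u} [Group G] [Finite G] {p : ℕ} [Fact p.Prime]
    (S : Sylow p G) (hS : ∀ a ∈ S, ∀ b ∈ S, a * b = b * a) (e : G) (he : e ∈ S) :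
    ∃ w ∈ S, ∃ m : ℕ, m.Coprime p ∧
      (∀ n ∈ Subgroup.normalizer ((S : Subgroup G) : Set G), n * w * n⁻¹ = w) ∧
      ∀ (A : Type v) [CommGroup A] (f : G →* A), f w = f e ^ m := by
  classical
  set S' : Subgroup G := (S : Subgroup G) with hS'
  set Nn : Subgroup G := Subgroup.normalizer (S' : Set G) with hNn
  let instC : CommGroup S' := { (inferInstance : Group S') with
    mul_comm := fun a b => Subtype.ext (hS a a.2 b b.2) }
  have hconj : ∀ h ∈ Nn, ∀ x ∈ S', h * x * h⁻¹ ∈ S' := fun h hh x hx =>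
    (Subgroup.mem_normalizer_iff.1 hh x).1 hx
  let φ : Nn → (S' →* S') := fun h =>
    { toFun := fun x => ⟨h * x * h⁻¹, hconj h h.2 x x.2⟩
      map_one' := Subtype.ext (by simp)
      map_mul' := fun x y => Subtype.ext (by simp [mul_assoc]) }
  let f₀ : Nn → S' := fun g => ⟨g * e * g⁻¹, hconj g g.2 e he⟩
  let F : (Nn ⧸ (S'.subgroupOf Nn)) → S' := fun c => Quotient.liftOn' c f₀ (by
    intro a b hab
    rw [QuotientGroup.leftRel_apply, Subgroup.mem_subgroupOf] at hab
    apply Subtype.ext
    have h1 := hS e he _ hab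
    have h2 : (b : G) = a * ((a⁻¹ * b : Nn) : G) := by simp
    change (a : G) * e * (a : G)⁻¹ = (b : G) * e * (b : G)⁻¹
    rw [h2]
    set s : G := ((a⁻¹ * b : Nn) : G) with hs
    calc (a : G) * e * (a : G)⁻¹ = a * (e * s) * s⁻¹ * (a : G)⁻¹ := by group
      _ = a * (s * e) * s⁻¹ * (a : G)⁻¹ := by rw [h1]
      _ = _ := by group)
  have hFmk : ∀ g : Nn, F (QuotientGroup.mk g) = f₀ g := fun g => rfl
  let _ : Fintype (Nn ⧸ (S'.subgroupOf Nn)) := Fintype.ofFinite _
  have hcop : (Fintype.card (Nn ⧸ (S'.subgroupOf Nn))).Coprime p := by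
    rw [← Nat.card_eq_fintype_card]
    change (S'.relIndex Nn).Coprime p
    have h1 : S'.relIndex Nn * Nn.index = S'.index :=
      Subgroup.relIndex_mul_index Subgroup.le_normalizer
    have h2 : ¬ p ∣ S'.index := S.not_dvd_index
    rw [Nat.coprime_comm, Nat.Prime.coprime_iff_not_dvd Fact.out]
    intro h3
    exact h2 (h1 ▸ Dvd.dvd.mul_right h3 _)
  have hinv : ∀ h : Nn, φ h (∏ c, F c) = ∏ c, F c := by
    intro h
    rw [map_prod]
    rw [← Equiv.prod_comp (MulAction.toPerm h) F]
    apply Finset.prod_congr rfl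
    intro c _
    induction c using QuotientGroup.induction_on with
    | H g =>
      change φ h (f₀ g) = f₀ (h * g)
      apply Subtype.ext
      change (h : G) * ((g : G) * e * (g : G)⁻¹) * (h : G)⁻¹
        = ((h * g : Nn) : G) * e * ((h * g : Nn) : G)⁻¹
      simp [mul_assoc]
  refine ⟨((∏ c, F c : S') : G), (∏ c, F c : S').2, _, hcop, ?_, ?_⟩
  · intro n hn
    exact congrArg Subtype.val (hinv ⟨n, hn⟩)
  · intro A _ f
    have h1 : f ((∏ c, F c : S') : G) = (f.comp S'.subtype) (∏ c, F c) := rfl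
    rw [h1, map_prod]
    rw [Finset.prod_congr rfl (g := fun _ => f e), Finset.prod_const, Finset.card_univ]
    intro c _
    induction c using QuotientGroup.induction_on with
    | H g =>
      rw [hFmk]
      change f ((g : G) * e * (g : G)⁻¹) = f e
      rw [map_mul, map_mul, map_inv, mul_comm, inv_mul_cancel_left]

theorem pw_of_normalizer_fixed {G : Type u} [Group G] [Finite G] {p : ℕ} [Fact p.Prime]
    (S : Sylow p G) (hS : ∀ a ∈ S, ∀ b ∈ S, a * b = b * a) (w : G) (hw : w ∈ S)
    (hfix : ∀ n ∈ Subgroup.normalizer ((S : Subgroup G) : Set G), n * w * n⁻¹ = w) :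
    ∀ y ∈ Subgroup.zpowers w, ∀ g : G, g * y * g⁻¹ ∈ S → g * y * g⁻¹ = y := by
  rintro _ ⟨k, rfl⟩ g hg
  have hSc : ∀ a ∈ S, a ∈ Subgroup.centralizer ((S : Subgroup G) : Set G) := by
    intro a ha
    rw [Subgroup.mem_centralizer_iff]
    intro b hb
    exact hS b hb a ha
  obtain ⟨n, hn, hn'⟩ := S.conj_eq_normalizer_conj_of_mem_centralizer (w ^ k) g⁻¹
    (hSc _ (zpow_mem hw k)) (by rw [inv_inv]; exact hSc _ hg)
  rw [inv_inv] at hn'
  change g * w ^ k * g⁻¹ = w ^ k
  rw [hn']
  have h1 := hfix n⁻¹ (inv_mem hn)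
  rw [inv_inv] at h1
  have h2 : n⁻¹ * w ^ k * n = (n⁻¹ * w * n) ^ k := by
    have := conj_zpow (a := n⁻¹) (b := w) (i := k)
    rw [inv_inv] at this
    exact this.symm
  rw [h2, h1]

/-- conditional (on Z*) form of S4593 -/
theorem inner_of_fixes_abelian_sylow (hZ : ZStarHyp.{u}) {G : Type u} [Group G] [Finite G]
    (hcore : Cfsg.pPrimeCore 2 G = ⊥) (P : Sylow 2 G)
    (hab : ∀ a ∈ P, ∀ b ∈ P, a * b = b * a)
    (α : MulAut G) (h2 : ∃ j : ℕ, orderOf α = 2 ^ j) (hfix : ∀ x ∈ (P : Subgroup G), α x = x) :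
    ∃ g : G, ∀ x : G, α x = g * x * g⁻¹ := by
  classical
  have : Fact (Nat.Prime 2) := ⟨Nat.prime_two⟩
  obtain ⟨j, hj⟩ := h2
  set A : Subgroup (MulAut G) := Subgroup.zpowers α with hA
  have hAcard : Nat.card A = 2 ^ j := by rw [hA, Nat.card_zpowers, hj]
  have hAfin : Finite A := Nat.finite_of_card_ne_zero (by rw [hAcard]; positivity)
  have hAfix : ∀ a : A, ∀ x ∈ (P : Subgroup G), (a : MulAut G) x = x := by
    rintro ⟨_, k, rfl⟩ x hx
    change (α ^ k) x = x
    have h1 : α ∈ MulAction.stabilizer (MulAut G) x := by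
      rw [MulAction.mem_stabilizer_iff]; exact hfix x hx
    have h2 := zpow_mem h1 k
    rw [MulAction.mem_stabilizer_iff] at h2
    exact h2
  have hAcomm : ∀ a b : A, a * b = b * a := by
    intro a b
    obtain ⟨_, k, rfl⟩ := a
    obtain ⟨_, l, rfl⟩ := b
    apply Subtype.ext
    change α ^ k * α ^ l = α ^ l * α ^ k
    rw [← zpow_add, ← zpow_add, add_comm]
  let H := G ⋊[A.subtype] A
  have hHfin : Finite H := Finite.of_equiv _ SemidirectProduct.equivProd.symm
  let S₀ : Subgroup H :=
    { carrier := {h | h.left ∈ (P : Subgroup G)}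
      one_mem' := one_mem (P : Subgroup G)
      mul_mem' := by
        intro a b ha hb
        change a.left * (a.right : MulAut G) b.left ∈ (P : Subgroup G)
        rw [hAfix a.right _ hb]
        exact mul_mem ha hb
      inv_mem' := by
        intro a ha
        change ((a.right⁻¹ : A) : MulAut G) a.left⁻¹ ∈ (P : Subgroup G)
        rw [hAfix _ _ (inv_mem ha)]
        exact inv_mem ha }
  have hS₀mem : ∀ h : H, h ∈ S₀ ↔ h.left ∈ (P : Subgroup G) := fun h => Iff.rfl
  have hS₀card : Nat.card S₀ = Nat.card (P : Subgroup G) * Nat.card A := by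
    rw [← Nat.card_prod]
    exact Nat.card_congr
      { toFun := fun h => (⟨h.1.left, h.2⟩, h.1.right)
        invFun := fun x => ⟨⟨x.1.1, x.2⟩, x.1.2⟩
        left_inv := fun h => rfl
        right_inv := fun x => rfl }
  have hHcard : Nat.card H = Nat.card G * Nat.card A := SemidirectProduct.card
  have hS₀idx : S₀.index = (P : Subgroup G).index := by
    have h1 := Subgroup.card_mul_index S₀
    have h2 := Subgroup.card_mul_index (P : Subgroup G)
    rw [hS₀card, hHcard, ← h2] at h1
    have h3 : 0 < Nat.card (P : Subgroup G) * Nat.card A := by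
      have : 0 < Nat.card (P : Subgroup G) := Nat.card_pos
      have : 0 < Nat.card A := Nat.card_pos
      positivity
    apply Nat.eq_of_mul_eq_mul_left h3
    rw [h1]; ring
  have hS₀p : IsPGroup 2 S₀ := by
    obtain ⟨k, hk⟩ := (IsPGroup.iff_card).1 P.2
    apply IsPGroup.of_card (n := k + j)
    rw [hS₀card, hk, hAcard, pow_add]
  let S : Sylow 2 H := hS₀p.toSylow (by rw [hS₀idx]; exact P.not_dvd_index)
  have hSmem : ∀ h : H, h ∈ S ↔ h.left ∈ (P : Subgroup G) := fun h => Iff.rfl
  have hScomm : ∀ a ∈ S, ∀ b ∈ S, a * b = b * a := by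
    intro a ha b hb
    rw [hSmem] at ha hb
    apply SemidirectProduct.ext
    · change a.left * (a.right : MulAut G) b.left = b.left * (b.right : MulAut G) a.left
      rw [hAfix _ _ hb, hAfix _ _ ha]
      exact hab _ ha _ hb
    · exact hAcomm _ _
  let e : H := SemidirectProduct.inr ⟨α, Subgroup.mem_zpowers α⟩
  have heS : e ∈ S := by
    rw [hSmem]; exact one_mem _
  let _ : CommGroup A := { (inferInstance : Group A) with mul_comm := hAcomm }
  obtain ⟨w, hwS, m, hm, hwfix, hwf⟩ := exists_normalizer_fixed.{u, u} S hScomm e heS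
  have hPW := pw_of_normalizer_fixed S hScomm w hwS hwfix
  have hcomm := comm_mem_oddCore_of_pointwise_closed hZ _ H rfl S (Subgroup.zpowers w)
    (Subgroup.zpowers_le.2 hwS) hPW w (Subgroup.mem_zpowers w)
  -- `O(H) = 1`
  have hOodd : (Nat.card (Cfsg.oddCore H)).Coprime 2 :=
    (Cfsg.Agent.Lib.Helper80.pPrimeCore_spec 2).2
  have hOH : ∀ x ∈ Cfsg.oddCore H, x = 1 := by
    intro x hx
    have hox : (orderOf x).Coprime 2 := by
      have h1 : orderOf x ∣ Nat.card (Cfsg.oddCore H) := by
        have := orderOf_dvd_natCard (⟨x, hx⟩ : Cfsg.oddCore H)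
        rwa [Subgroup.orderOf_mk] at this
      exact Nat.Coprime.coprime_dvd_left h1 hOodd
    have hr : x.right = 1 := by
      have h1 : orderOf (SemidirectProduct.rightHom x : A) ∣ orderOf x :=
        orderOf_map_dvd _ x
      have h2 : orderOf (SemidirectProduct.rightHom x : A) ∣ 2 ^ j := by
        rw [← hAcard]; exact orderOf_dvd_natCard _
      have h3 : (orderOf (SemidirectProduct.rightHom x : A)).Coprime (2 ^ j) :=
        Nat.Coprime.pow_right j (Nat.Coprime.coprime_dvd_left h1 hox)
      have h4 : orderOf (SemidirectProduct.rightHom x : A) = 1 :=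
        Nat.Coprime.eq_one_of_dvd h3 h2
      exact orderOf_eq_one_iff.1 h4
    have hxl : x = SemidirectProduct.inl x.left := by
      apply SemidirectProduct.ext
      · rfl
      · exact hr
    have hK : (Cfsg.oddCore H).comap (SemidirectProduct.inl : G →* H) ≤ ⊥ := by
      rw [← hcore]
      apply Cfsg.Agent.Lib.Helper80.le_pPrimeCore inferInstance
      have h1 : Nat.card ((Cfsg.oddCore H).comap (SemidirectProduct.inl : G →* H))
          ∣ Nat.card (Cfsg.oddCore H) :=
        Subgroup.card_comap_dvd_of_injective _ _ SemidirectProduct.inl_injective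
      exact Nat.Coprime.coprime_dvd_left h1 hOodd
    have h5 : x.left ∈ (Cfsg.oddCore H).comap (SemidirectProduct.inl : G →* H) := by
      rw [Subgroup.mem_comap, ← hxl]; exact hx
    have h6 := (Subgroup.mem_bot).1 (hK h5)
    rw [hxl, h6, map_one]
  have hwr : (w.right : MulAut G) = α ^ m := by
    have h1 := hwf A SemidirectProduct.rightHom
    have h2 : (SemidirectProduct.rightHom e : A) = ⟨α, Subgroup.mem_zpowers α⟩ :=
      SemidirectProduct.rightHom_inr _
    rw [h2] at h1
    have h3 := congrArg Subtype.val h1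
    exact h3
  have hconj : ∀ x : G, (α ^ m) x = w.left⁻¹ * x * w.left := by
    intro x
    have h1 := hOH _ (hcomm (SemidirectProduct.inl x))
    have h2 : w * SemidirectProduct.inl x = SemidirectProduct.inl x * w :=
      mul_inv_eq_iff_eq_mul.1 (mul_inv_eq_one.1 h1)
    have h3 := congrArg SemidirectProduct.left h2
    change w.left * (w.right : MulAut G) x = x * ((1 : A) : MulAut G) w.left at h3
    rw [hwr] at h3
    have h4 : ((1 : A) : MulAut G) w.left = w.left := rfl
    rw [h4] at h3
    calc (α ^ m) x = w.left⁻¹ * (w.left * (α ^ m) x) := by group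
      _ = _ := by rw [h3]; group
  have hαm : α ^ m = MulAut.conj w.left⁻¹ := by
    ext x
    rw [hconj, MulAut.conj_apply, inv_inv]
  obtain ⟨k, hk⟩ := exists_pow_eq_self_of_coprime (x := α) (n := m)
    (by rw [hj]; exact Nat.Coprime.pow_right j hm)
  refine ⟨(w.left⁻¹) ^ k, ?_⟩
  intro x
  rw [← MulAut.conj_apply, map_pow, ← hαm, hk]

end Cfsg.Agent.Lib.Helper93
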