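import Cfsg.Agent.Lib.Helper93.J1Grp

/-!
# The centraliser of the involution `t = (XY)^5` of `J₁` has at most 120 elements
-/

set_option autoImplicit false

namespace Cfsg.Agent.Lib.Helper93.J1

/-- the code of the involution `(XY)^5`. -/
def tc : ℕ := evalW [false, true, false, true, false, true, false, true, false, true]

theorem inJ_t : InJ tc := inJ_evalW _

/-- the involution `(XY)^5`. -/
noncomputable def tJ : ↥Cfsg.Spor.J1 := el tc inJ_t

def chkHt : Bool :=
  force tc fun t => allR 0 120 fun j => force (H j) fun h => Nat.beq (mulC h t) (mulC t h)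

def chkUt (lo len : ℕ) : Bool :=
  force tc fun t => allR lo len fun i => force (U i) fun u => !(Nat.beq (mulC u t) (mulC t u))

theorem cHt : chkHt = true := by decide +kernel
theorem cUt : chkUt 1 1462 = true := by decide +kernel

theorem H_comm_t (j : ℕ) (hj : j < 120) : mulC (H j) tc = mulC tc (H j) := by
  have h := cHt
  simp only [chkHt, force_eq] at h
  have h2 := allR_sound h j (Nat.zero_le _) (by omega)
  exact Nat.eq_of_beq_eq_true h2

theorem U_not_comm_t (i : ℕ) (h1 : 1 ≤ i) (hi : i < 1463) : mulC (U i) tc ≠ mulC tc (U i) := by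
  have h := cUt
  simp only [chkUt, force_eq] at h
  have h2 := allR_sound h i h1 (by omega)
  simp only [Bool.not_eq_true'] at h2
  intro e
  rw [e] at h2
  simp at h2

theorem tJ_sq : tJ ^ 2 = 1 := by
  rw [pow_two, tJ, el_mul]
  exact el_eq_one _ (by decide +kernel)

theorem tJ_ne_one : tJ ≠ 1 := el_ne_one _ (by decide +kernel)

theorem orderOf_tJ : orderOf tJ = 2 := orderOf_eq_prime tJ_sq tJ_ne_one

/-- an element commuting with `t` is one of the `H j`. -/
theorem cent_code (g : ↥Cfsg.Spor.J1) (hg : tJ * g = g * tJ) :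
    ∃ j < 120, ((g : GL (Fin 7) (ZMod 11)) : M7) = toM (H j) := by
  obtain ⟨i, hi, j, hj, e⟩ := mem_T g g.2
  have hT : ((tJ : GL (Fin 7) (ZMod 11)) : M7) = toM tc := el_val _ _
  have h1 : toM tc * (toM (U i) * toM (H j)) = toM (U i) * toM (H j) * toM tc := by
    rw [← e, ← hT]
    have := congrArg (fun x : ↥Cfsg.Spor.J1 => ((x : GL (Fin 7) (ZMod 11)) : M7)) hg
    exact this
  have h2 : toM (H j) * toM tc = toM tc * toM (H j) := by
    rw [← toM_mulC (val_H j hj) inJ_t.1, H_comm_t j hj, toM_mulC inJ_t.1 (val_H j hj)]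
  obtain ⟨B, hB⟩ := H_inv j hj
  have h3 : toM tc * toM (U i) = toM (U i) * toM tc := by
    calc toM tc * toM (U i) = toM tc * (toM (U i) * toM (H j)) * B := by
          rw [mul_assoc, mul_assoc, hB, mul_one]
      _ = toM (U i) * toM tc * (toM (H j) * B) := by
          rw [h1, mul_assoc (toM (U i)), h2]; simp only [mul_assoc]
      _ = _ := by rw [hB, mul_one]
  have h4 : i = 0 := by
    by_contra h0
    apply U_not_comm_t i (by omega) hi
    apply eq_of_toM_eq (canon_mulC _ _) (canon_mulC _ _)
    rw [toM_mulC (val_U i hi) inJ_t.1, toM_mulC inJ_t.1 (val_U i hi), h3]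
  subst h4
  exact ⟨j, hj, by rw [e, U0, toM_oneC, one_mul]⟩

theorem card_centralizer_le :
    Nat.card ↥(Subgroup.centralizer ({tJ} : Set ↥Cfsg.Spor.J1)) ≤ 120 := by
  have key : ∀ g : ↥(Subgroup.centralizer ({tJ} : Set ↥Cfsg.Spor.J1)),
      ∃ j : Fin 120, (((g : ↥Cfsg.Spor.J1) : GL (Fin 7) (ZMod 11)) : M7) = toM (H j) := by
    intro g
    obtain ⟨j, hj, e⟩ := cent_code g (Subgroup.mem_centralizer_singleton_iff.1 g.2).symm
    exact ⟨⟨j, hj⟩, e⟩
  choose f hf using key
  have hinj : Function.Injective f := by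
    intro a b hab
    apply Subtype.ext
    apply ext_val
    rw [hf a, hf b, hab]
  have := Nat.card_le_card_of_injective f hinj
  simpa using this

end Cfsg.Agent.Lib.Helper93.J1
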