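import Cfsg.Agent.Lib.Helper93.J1Cent
import Cfsg.Agent.Lib.Helper47.Polyhedral

/-!
# The centraliser of the involution `t = (XY)^5` of `J₁` is `2 × A₅`
-/

set_option autoImplicit false

namespace Cfsg.Agent.Lib.Helper93.J1

theorem A5_center_trivial : ∀ σ : alternatingGroup (Fin 5), (∀ τ : alternatingGroup (Fin 5), σ * τ = τ * σ) → σ = 1 := by
  decide +kernel

/-- a group of order at most 120 with a central involution and a copy of `A₅` is `2 × A₅`. -/
theorem equiv_of_central_invol {C : Type*} [Group C] [Finite C] (t : C) (ht2 : t ^ 2 = 1) (ht1 : t ≠ 1)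
    (hc : ∀ g, t * g = g * t) (f : alternatingGroup (Fin 5) →* C) (hf : Function.Injective f)
    (hcard : Nat.card C ≤ 120) :
    Nonempty (C ≃* Multiplicative (ZMod 2) × alternatingGroup (Fin 5)) := by
  have hmul : ∀ a b : ZMod 2, t ^ (a + b).val = t ^ a.val * t ^ b.val := by
    have key : ∀ a b : ZMod 2, (a + b).val = a.val + b.val ∨ (a + b).val + 2 = a.val + b.val := by decide
    intro a b
    rw [← pow_add]
    rcases key a b with h | h
    · rw [h]
    · rw [← h, pow_add, ht2, mul_one]
  let φ : Multiplicative (ZMod 2) →* C :=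
    { toFun := fun e => t ^ (Multiplicative.toAdd e).val
      map_one' := by simp
      map_mul' := fun a b => hmul (Multiplicative.toAdd a) (Multiplicative.toAdd b) }
  have hcomm : ∀ (m : Multiplicative (ZMod 2)) (n : alternatingGroup (Fin 5)), Commute (φ m) (f n) := by
    intro m n
    have : Commute t (f n) := hc (f n)
    exact this.pow_left _
  let F := MonoidHom.noncommCoprod φ f hcomm
  have hφ : ∀ e : ZMod 2, e ≠ 0 → t ^ e.val = t := by
    have key : ∀ e : ZMod 2, e ≠ 0 → e.val = 1 := by decide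
    intro e he
    rw [key e he, pow_one]
  have hF : Function.Injective F := by
    rw [injective_iff_map_eq_one]
    rintro ⟨e, σ⟩ h
    have h1 : t ^ (Multiplicative.toAdd e).val * f σ = 1 := h
    by_cases he : Multiplicative.toAdd e = 0
    · rw [he] at h1
      simp only [ZMod.val_zero, pow_zero, one_mul] at h1
      have h2 : σ = 1 := hf (by rw [h1, map_one])
      have h3 : e = 1 := he
      rw [h2, h3]; rfl
    · exfalso
      rw [hφ _ he] at h1
      have h2 : f σ⁻¹ = t := by
        rw [map_inv]; exact (eq_inv_of_mul_eq_one_left h1).symm ▸ (by simp)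
      have h3 : σ⁻¹ = 1 := by
        apply A5_center_trivial
        intro τ
        apply hf
        rw [map_mul, map_mul, h2, hc]
      rw [h3, map_one] at h2
      exact ht1 h2.symm
  have hc2 : Nat.card (Multiplicative (ZMod 2) × alternatingGroup (Fin 5)) = 120 := by
    rw [Nat.card_prod, Nat.card_eq_fintype_card, Nat.card_eq_fintype_card]
    have : Fintype.card (alternatingGroup (Fin 5)) = 60 := by decide +kernel
    rw [this]
    rfl
  have hb : Function.Bijective F :=
    Function.Injective.bijective_of_nat_card_le hF (by rw [hc2]; exact hcard)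
  exact ⟨(MulEquiv.ofBijective F hb).symm⟩

def x0c : ℕ := evalW [false, true, false, false, false, true, true, false, true, false, true, false, true, true, false, false]
def x1c : ℕ := evalW [true, true, false, true, true, true, false, true, true, true, false, true]
def x2c : ℕ := evalW [false, false, false, true, false, false, false, true, true, true, true]

theorem mem_cent {c : ℕ} (h : InJ c) (e : mulC c tc = mulC tc c) :
    el c h ∈ Subgroup.centralizer ({tJ} : Set ↥Cfsg.Spor.J1) := by
  rw [Subgroup.mem_centralizer_singleton_iff, tJ, el_mul, el_mul]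
  exact el_congr _ _ e

theorem centralizer_equiv : Nonempty (↥(Subgroup.centralizer ({tJ} : Set ↥Cfsg.Spor.J1)) ≃*
    Multiplicative (ZMod 2) × ↥(alternatingGroup (Fin 5))) := by
  have i0 : InJ x0c := inJ_evalW _
  have i1 : InJ x1c := inJ_evalW _
  have i2 : InJ x2c := inJ_evalW _
  let y0 : ↥(Subgroup.centralizer ({tJ} : Set ↥Cfsg.Spor.J1)) := ⟨el x0c i0, mem_cent i0 (by decide +kernel)⟩
  let y1 : ↥(Subgroup.centralizer ({tJ} : Set ↥Cfsg.Spor.J1)) := ⟨el x1c i1, mem_cent i1 (by decide +kernel)⟩
  let y2 : ↥(Subgroup.centralizer ({tJ} : Set ↥Cfsg.Spor.J1)) := ⟨el x2c i2, mem_cent i2 (by decide +kernel)⟩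
  let t' : ↥(Subgroup.centralizer ({tJ} : Set ↥Cfsg.Spor.J1)) :=
    ⟨tJ, Subgroup.mem_centralizer_singleton_iff.2 rfl⟩
  have r0 : y0 ^ 3 = 1 := by
    apply Subtype.ext
    show el x0c i0 ^ 3 = 1
    rw [el_pow i0 3 (inJ_powC i0 3)]
    exact el_eq_one _ (by decide +kernel)
  have r1 : y1 ^ 2 = 1 := by
    apply Subtype.ext
    show el x1c i1 ^ 2 = 1
    rw [el_pow i1 2 (inJ_powC i1 2)]
    exact el_eq_one _ (by decide +kernel)
  have r2 : y2 ^ 2 = 1 := by
    apply Subtype.ext
    show el x2c i2 ^ 2 = 1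
    rw [el_pow i2 2 (inJ_powC i2 2)]
    exact el_eq_one _ (by decide +kernel)
  have r01 : (y0 * y1) ^ 3 = 1 := by
    apply Subtype.ext
    show (el x0c i0 * el x1c i1) ^ 3 = 1
    rw [el_mul, el_pow (i0.mul i1) 3 (inJ_powC (i0.mul i1) 3)]
    exact el_eq_one _ (by decide +kernel)
  have r12 : (y1 * y2) ^ 3 = 1 := by
    apply Subtype.ext
    show (el x1c i1 * el x2c i2) ^ 3 = 1
    rw [el_mul, el_pow (i1.mul i2) 3 (inJ_powC (i1.mul i2) 3)]
    exact el_eq_one _ (by decide +kernel)
  have r02 : (y0 * y2) ^ 2 = 1 := by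
    apply Subtype.ext
    show (el x0c i0 * el x2c i2) ^ 2 = 1
    rw [el_mul, el_pow (i0.mul i2) 2 (inJ_powC (i0.mul i2) 2)]
    exact el_eq_one _ (by decide +kernel)
  have hne : y1 ≠ 1 := by
    intro h
    have h' : el x1c i1 = 1 := congrArg Subtype.val h
    exact el_ne_one i1 (by decide +kernel) h'
  obtain ⟨f, hf, -⟩ := Cfsg.Agent.Lib.Helper47.exists_injective_hom_A5 y0 y1 y2 r0 r1 r2 r01 r12 r02 hne
  apply equiv_of_central_invol t' _ _ _ f hf card_centralizer_le
  · apply Subtype.ext
    exact tJ_sq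
  · intro h
    exact tJ_ne_one (congrArg Subtype.val h)
  · intro g
    apply Subtype.ext
    exact (Subgroup.mem_centralizer_singleton_iff.1 g.2).symm

theorem card_centralizer : Nat.card ↥(Subgroup.centralizer ({tJ} : Set ↥Cfsg.Spor.J1)) = 120 := by
  obtain ⟨e⟩ := centralizer_equiv
  rw [Nat.card_congr e.toEquiv, Nat.card_prod, Nat.card_eq_fintype_card, Nat.card_eq_fintype_card]
  have : Fintype.card (alternatingGroup (Fin 5)) = 60 := by decide +kernel
  rw [this]
  rfl

end Cfsg.Agent.Lib.Helper93.J1
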