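import Cfsg.Agent.Lib.Helper93.J1Sound
import Cfsg.Agent.Lib.Helper93.J1Data

/-!
# The certificate for `J₁`, checked by kernel evaluation
-/

set_option autoImplicit false

namespace Cfsg.Agent.Lib.Helper93.J1

/-- coset representative number `i < 1463`. -/
def U (i : ℕ) : ℕ := tab Ubig 490 3196670515523576044934755563308202297086564498088930458479776726656380660551439995003193449537015778467662777468320381844938727095591204153641140223 i
/-- element number `i < 120` of the involution centraliser. -/
def H (i : ℕ) : ℕ := tab Hbig 490 3196670515523576044934755563308202297086564498088930458479776726656380660551439995003193449537015778467662777468320381844938727095591204153641140223 i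
/-- double coset representative number `i < 22`. -/
def R (i : ℕ) : ℕ := tab Rbig 490 3196670515523576044934755563308202297086564498088930458479776726656380660551439995003193449537015778467662777468320381844938727095591204153641140223 i
def At (i : ℕ) : ℕ := tab Abig 7 127 i
def Bt (i : ℕ) : ℕ := tab Bbig 40 1099511627775 i
def Dt (i : ℕ) : ℕ := tab Dbig 20 1048575 i

theorem cvH : chkV H 120 = true := by decide +kernel
theorem cvR : chkV R 22 = true := by decide +kernel
theorem cA0 : chkA H At 120 0 30 = true := by decide +kernel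
theorem cA1 : chkA H At 120 30 30 = true := by decide +kernel
theorem cA2 : chkA H At 120 60 30 = true := by decide +kernel
theorem cA3 : chkA H At 120 90 30 = true := by decide +kernel
theorem cB0 : chkB U H Bt 1463 120 0 488 = true := by decide +kernel
theorem cB1 : chkB U H Bt 1463 120 488 488 = true := by decide +kernel
theorem cB2 : chkB U H Bt 1463 120 976 487 = true := by decide +kernel
theorem cD0 : chkD U H R Dt 120 22 0 732 = true := by decide +kernel
theorem cD1 : chkD U H R Dt 120 22 732 731 = true := by decide +kernel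
theorem cE0 : chkE H R 120 0 6 = true := by decide +kernel
theorem cE1 : chkE H R 120 6 6 = true := by decide +kernel
theorem cE2 : chkE H R 120 12 5 = true := by decide +kernel
theorem cE3 : chkE H R 120 17 5 = true := by decide +kernel

theorem U0 : U 0 = oneC := by decide +kernel
theorem H0 : H 0 = oneC := by decide +kernel
theorem R0 : R 0 = oneC := by decide +kernel

theorem H_mul (a : ℕ) (ha : a < 120) (b : ℕ) (hb : b < 120) : ∃ c < 120, mulC (H a) (H b) = H c := by
  by_cases h0 : a < 30
  · exact chkA_sound cA0 a (by omega) (by omega) b hb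
  by_cases h1 : a < 60
  · exact chkA_sound cA1 a (by omega) (by omega) b hb
  by_cases h2 : a < 90
  · exact chkA_sound cA2 a (by omega) (by omega) b hb
  exact chkA_sound cA3 a (by omega) (by omega) b hb

theorem U_step (i : ℕ) (hi : i < 1463) : (∃ i' < 1463, ∃ j < 120, mulC Xc (U i) = mulC (U i') (H j)) ∧
    (∃ i' < 1463, ∃ j < 120, mulC Yc (U i) = mulC (U i') (H j)) := by
  by_cases h0 : i < 488
  · exact chkB_sound cB0 i (by omega) (by omega)
  by_cases h1 : i < 976
  · exact chkB_sound cB1 i (by omega) (by omega)
  exact chkB_sound cB2 i (by omega) (by omega)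

theorem U_dc (i : ℕ) (hi : i < 1463) : ∃ k < 120, ∃ r < 22, ∃ j < 120, U i = mulC (mulC (H k) (R r)) (H j) := by
  by_cases h0 : i < 732
  · exact chkD_sound cD0 i (by omega) (by omega)
  exact chkD_sound cD1 i (by omega) (by omega)

theorem RH_ord (r : ℕ) (hr : r < 22) (j : ℕ) (hj : j < 120) : ordOK (mulC (R r) (H j)) = true := by
  by_cases h0 : r < 6
  · exact chkE_sound cE0 r (by omega) (by omega) j hj
  by_cases h1 : r < 12
  · exact chkE_sound cE1 r (by omega) (by omega) j hj
  by_cases h2 : r < 17
  · exact chkE_sound cE2 r (by omega) (by omega) j hj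
  exact chkE_sound cE3 r (by omega) (by omega) j hj

theorem cert : Cert ((List.range 1463).map U) ((List.range 120).map H) ((List.range 22).map R) :=
  Cert.of_index U H R 1463 120 22 (chkV_sound cvH) (chkV_sound cvR) H_mul ⟨0, by norm_num, U0⟩
    ⟨0, by norm_num, H0⟩ ⟨0, by norm_num, R0⟩ U_step U_dc RH_ord

/-- every element of `J₁` is killed by one of the exponents 6, 7, 10, 11, 15, 19. -/
theorem pow_eq_one (g : GL (Fin 7) (ZMod 11)) (hg : g ∈ Cfsg.Spor.J1) :
    ∃ n ∈ [6, 7, 10, 11, 15, 19], g ^ n = 1 := cert.pow_eq_one g hg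

/-- every element of `J₁` is a product `U i * H j`. -/
theorem mem_T (g : GL (Fin 7) (ZMod 11)) (hg : g ∈ Cfsg.Spor.J1) :
    ∃ i < 1463, ∃ j < 120, (g : M7) = toM (U i) * toM (H j) := by
  obtain ⟨u, hu, h, hh, e⟩ := cert.mem_T g hg
  simp only [List.mem_map, List.mem_range] at hu hh
  obtain ⟨i, hi, rfl⟩ := hu
  obtain ⟨j, hj, rfl⟩ := hh
  exact ⟨i, hi, j, hj, e⟩

end Cfsg.Agent.Lib.Helper93.J1
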