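import Cfsg.Agent.Lib.Helper93.J1Spec

/-!
# Elements of `J₁` given by codes
-/

set_option autoImplicit false

namespace Cfsg.Agent.Lib.Helper93.J1

/-- canonical codes: reduced entries and no garbage above the 49 fields. -/
def Canon (c : ℕ) : Prop := Val c ∧ c < (1024 ^ 7) ^ 7

theorem canon_mulC (a b : ℕ) : Canon (mulC a b) := by
  refine ⟨val_mulC a b, ?_⟩
  rw [mulC_eq]
  exact digits_lt (1024 ^ 7) 7 _ (fun k _ => red_lt _)

theorem eq_of_flds {a b : ℕ} (ha : a < (1024 ^ 7) ^ 7) (hb : b < (1024 ^ 7) ^ 7)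
    (h : ∀ i < 7, ∀ j < 7, fld (row a i) j = fld (row b i) j) : a = b := by
  have hr : ∀ i < 7, row a i = row b i := by
    intro i hi
    rw [← digits_sum 1024 (by norm_num) 7 (row a i) (row_lt a i),
      ← digits_sum 1024 (by norm_num) 7 (row b i) (row_lt b i)]
    apply Finset.sum_congr rfl
    intro j hj
    rw [← fld_eq, ← fld_eq, h i hi j (Finset.mem_range.1 hj)]
  rw [← digits_sum (1024 ^ 7) (by norm_num) 7 a ha, ← digits_sum (1024 ^ 7) (by norm_num) 7 b hb]
  apply Finset.sum_congr rfl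
  intro i hi
  rw [← row_eq, ← row_eq, hr i (Finset.mem_range.1 hi)]

theorem eq_of_toM_eq {a b : ℕ} (ha : Canon a) (hb : Canon b) (h : toM a = toM b) : a = b := by
  apply eq_of_flds ha.2 hb.2
  intro i hi j hj
  have h0 := congrFun (congrFun h ⟨i, hi⟩) ⟨j, hj⟩
  simp only [toM] at h0
  have h1 := ha.1 i hi j hj
  have h2 := hb.1 i hi j hj
  rw [ZMod.natCast_eq_natCast_iff'] at h0
  omega

/-- the element of `J₁` with code `c`. -/
noncomputable def el (c : ℕ) (h : InJ c) : ↥Cfsg.Spor.J1 := ⟨h.2.choose, h.2.choose_spec.1⟩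

theorem el_val (c : ℕ) (h : InJ c) :
    (((el c h : ↥Cfsg.Spor.J1) : GL (Fin 7) (ZMod 11)) : M7) = toM c := h.2.choose_spec.2

theorem ext_val {g h : ↥Cfsg.Spor.J1}
    (e : ((g : GL (Fin 7) (ZMod 11)) : M7) = ((h : GL (Fin 7) (ZMod 11)) : M7)) : g = h :=
  Subtype.ext (Units.ext e)

theorem el_mul {a b : ℕ} (ha : InJ a) (hb : InJ b) : el a ha * el b hb = el (mulC a b) (ha.mul hb) := by
  apply ext_val
  rw [el_val, toM_mulC ha.1 hb.1, ← el_val a ha, ← el_val b hb]
  rfl

theorem el_congr {a b : ℕ} (ha : InJ a) (hb : InJ b) (e : a = b) : el a ha = el b hb := by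
  subst e; rfl

theorem el_eq_one {a : ℕ} (ha : InJ a) (e : a = oneC) : el a ha = 1 := by
  apply ext_val
  rw [el_val, e, toM_oneC]; rfl

theorem el_ne_one {a : ℕ} (ha : InJ a) (e : toM a ≠ 1) : el a ha ≠ 1 := by
  intro h
  apply e
  rw [← el_val a ha, h]; rfl

theorem el_pow {a : ℕ} (ha : InJ a) (n : ℕ) (hn : InJ (powC a n)) : el a ha ^ n = el (powC a n) hn := by
  apply ext_val
  rw [el_val, toM_powC ha.1, ← el_val a ha]
  rfl

theorem inJ_powC {a : ℕ} (ha : InJ a) (n : ℕ) : InJ (powC a n) := by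
  induction n with
  | zero => exact inJ_one
  | succ n ih => exact ih.mul ha

/-- value of a word in the generators (`false` is `X`, `true` is `Y`). -/
def evalW : List Bool → ℕ
  | [] => oneC
  | b :: l => mulC (cond b Yc Xc) (evalW l)

theorem inJ_evalW : ∀ l : List Bool, InJ (evalW l)
  | [] => inJ_one
  | true :: l => inJ_Y.mul (inJ_evalW l)
  | false :: l => inJ_X.mul (inJ_evalW l)

theorem val_U (i : ℕ) (hi : i < 1463) : Val (U i) := by
  obtain ⟨k, _, r, _, j, _, e⟩ := U_dc i hi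
  rw [e]; exact val_mulC _ _

theorem val_H (j : ℕ) (hj : j < 120) : Val (H j) := chkV_sound cvH j hj

/-- every element of `J₁` has a code of the form `U i * H j`. -/
theorem exists_code (g : ↥Cfsg.Spor.J1) : ∃ i < 1463, ∃ j < 120,
    ((g : GL (Fin 7) (ZMod 11)) : M7) = toM (mulC (U i) (H j)) := by
  obtain ⟨i, hi, j, hj, e⟩ := mem_T g g.2
  exact ⟨i, hi, j, hj, by rw [e, toM_mulC (val_U i hi) (val_H j hj)]⟩

/-- the matrices `H j` are invertible. -/
theorem H_inv (j : ℕ) (hj : j < 120) : ∃ B : M7, toM (H j) * B = 1 := by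
  obtain ⟨m, hm, hKm⟩ := ordOK_sound (val_mulC _ _) (RH_ord 0 (by norm_num) j hj)
  rw [R0, toM_mulC val_oneC (val_H j hj), toM_oneC, one_mul] at hKm
  have hm0 : 0 < m := by
    simp only [List.mem_cons, List.not_mem_nil, or_false] at hm
    omega
  exact ⟨toM (H j) ^ (m - 1), by rw [← pow_succ', Nat.sub_add_cancel hm0, hKm]⟩

end Cfsg.Agent.Lib.Helper93.J1
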