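import Cfsg.Agent.Lib.Helper93.J1Syl2
import Cfsg.Agent.Lib.Helper93.J1Data2

/-!
# Every automorphism of `J₁` is inner
-/

set_option autoImplicit false

namespace Cfsg.Agent.Lib.Helper93.J1

/-- inverse of the coset representative number `i`. -/
def Uinv (i : ℕ) : ℕ := tab UIbig 490 3196670515523576044934755563308202297086564498088930458479776726656380660551439995003193449537015778467662777468320381844938727095591204153641140223 i

/-- the involution `U i * t * (U i)⁻¹`. -/
def sU (i : ℕ) : ℕ := mulC (mulC (U i) tc) (Uinv i)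

def X5c : ℕ := powC Xc 5

/-- the code of `X ^ k * t * X ^ (-k)`. -/
def goodc (k : ℕ) : ℕ := mulC (mulC (powC Xc k) tc) (powC Xc (7 - k))

def goodL : List ℕ := [goodc 0, goodc 1, goodc 2, goodc 3, goodc 4, goodc 5, goodc 6]

/-- the word `X ^ 5 * s * X * s`. -/
def wS (s : ℕ) : ℕ := mulC (mulC X5c s) (mulC Xc s)

def chkO (lo len : ℕ) : Bool :=
  force tc fun t => force X5c fun x5 => allR lo len fun i =>
    force (U i) fun u => force (Uinv i) fun u' => valB u' && (Nat.beq (mulC u u') oneC &&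
      (force (mulC (mulC u t) u') fun s => force (mulC (mulC x5 s) (mulC Xc s)) fun w =>
        (!(Nat.beq (mulC w w) oneC)) || memC s goodL))

theorem chkO_sound {lo len : ℕ} (h : chkO lo len = true) (i : ℕ) (h1 : lo ≤ i) (h2 : i < lo + len) :
    Val (Uinv i) ∧ mulC (U i) (Uinv i) = oneC ∧ (mulC (wS (sU i)) (wS (sU i)) = oneC → sU i ∈ goodL) := by
  simp only [chkO, force_eq] at h
  have h3 := allR_sound h i h1 h2
  simp only [Bool.and_eq_true, Bool.or_eq_true, Bool.not_eq_true'] at h3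
  obtain ⟨a1, a2, a3⟩ := h3
  refine ⟨val_of_valB a1, Nat.eq_of_beq_eq_true a2, ?_⟩
  intro e
  rcases a3 with a3 | a3
  · exfalso
    have e' : mulC (mulC (mulC X5c (mulC (mulC (U i) tc) (Uinv i))) (mulC Xc (mulC (mulC (U i) tc) (Uinv i))))
      (mulC (mulC X5c (mulC (mulC (U i) tc) (Uinv i))) (mulC Xc (mulC (mulC (U i) tc) (Uinv i)))) = oneC := e
    rw [e'] at a3
    simp at a3
  · exact mem_of_memC a3

theorem cO0 : chkO 0 500 = true := by decide +kernel
theorem cO1 : chkO 500 500 = true := by decide +kernel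
theorem cO2 : chkO 1000 463 = true := by decide +kernel

theorem U_out (i : ℕ) (hi : i < 1463) :
    Val (Uinv i) ∧ mulC (U i) (Uinv i) = oneC ∧ (mulC (wS (sU i)) (wS (sU i)) = oneC → sU i ∈ goodL) := by
  by_cases h0 : i < 500
  · exact chkO_sound cO0 i (by omega) (by omega)
  by_cases h1 : i < 1000
  · exact chkO_sound cO1 i (by omega) (by omega)
  exact chkO_sound cO2 i (by omega) (by omega)

noncomputable def XJ : ↥Cfsg.Spor.J1 := el Xc inJ_X
noncomputable def YJ : ↥Cfsg.Spor.J1 := el Yc inJ_Y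

theorem closure_XY : Subgroup.closure {XJ, YJ} = (⊤ : Subgroup ↥Cfsg.Spor.J1) := by
  have hX' : ((XJ : ↥Cfsg.Spor.J1) : GL (Fin 7) (ZMod 11)) = Cfsg.Spor.jankoX := by
    apply Units.ext
    rw [XJ, el_val, toM_Xc]; rfl
  have hY' : ((YJ : ↥Cfsg.Spor.J1) : GL (Fin 7) (ZMod 11)) = Cfsg.Spor.jankoY := by
    apply Units.ext
    rw [YJ, el_val, toM_Yc]; rfl
  rw [eq_top_iff]
  intro g _
  have hle : Cfsg.Spor.J1 ≤ (Subgroup.closure {XJ, YJ}).map (Subgroup.subtype _) := by
    refine (Subgroup.closure_le _).2 ?_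
    intro s hs
    rcases hs with rfl | rfl
    · exact ⟨XJ, Subgroup.subset_closure (by simp), hX'⟩
    · exact ⟨YJ, Subgroup.subset_closure (by simp), hY'⟩
  obtain ⟨g', hg', e⟩ := hle g.2
  have : g' = g := Subtype.ext e
  rwa [← this]

theorem canon_one : Canon oneC := ⟨val_oneC, by decide +kernel⟩

/-- every involution has a code `sU i`. -/
theorem invol_code (s : ↥Cfsg.Spor.J1) (hs : s * s = 1) (hs1 : s ≠ 1) :
    ∃ i < 1463, ((s : GL (Fin 7) (ZMod 11)) : M7) = toM (sU i) := by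
  obtain ⟨x, hx⟩ := invol_conj s hs hs1
  have hsx : s * x = x * tJ := by rw [hx]; group
  obtain ⟨i, hi, j, hj, e⟩ := mem_T x x.2
  have hT : ((tJ : GL (Fin 7) (ZMod 11)) : M7) = toM tc := el_val _ _
  have h1 : ((s : GL (Fin 7) (ZMod 11)) : M7) * (toM (U i) * toM (H j)) = toM (U i) * toM (H j) * toM tc := by
    rw [← e, ← hT]
    exact congrArg (fun x : ↥Cfsg.Spor.J1 => ((x : GL (Fin 7) (ZMod 11)) : M7)) hsx
  have h2 : toM (H j) * toM tc = toM tc * toM (H j) := by
    rw [← toM_mulC (val_H j hj) inJ_t.1, H_comm_t j hj, toM_mulC inJ_t.1 (val_H j hj)]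
  obtain ⟨B, hB⟩ := H_inv j hj
  have h3 : ((s : GL (Fin 7) (ZMod 11)) : M7) * toM (U i) = toM (U i) * toM tc := by
    calc ((s : GL (Fin 7) (ZMod 11)) : M7) * toM (U i)
        = ((s : GL (Fin 7) (ZMod 11)) : M7) * (toM (U i) * toM (H j)) * B := by
          rw [mul_assoc, mul_assoc, hB, mul_one]
      _ = toM (U i) * toM tc * (toM (H j) * B) := by
          rw [h1, mul_assoc (toM (U i)), h2]; simp only [mul_assoc]
      _ = _ := by rw [hB, mul_one]
  obtain ⟨v, hinv, -⟩ := U_out i hi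
  have h4 : toM (U i) * toM (Uinv i) = 1 := by
    rw [← toM_mulC (val_U i hi) v, hinv, toM_oneC]
  refine ⟨i, hi, ?_⟩
  rw [sU, toM_mulC (val_mulC _ _) v, toM_mulC (val_U i hi) inJ_t.1, ← h3, mul_assoc, h4, mul_one]

theorem conj_mem_zpowers {G : Type*} [Group G] [Finite G] (p : ℕ) [Fact p.Prime]
    (hfac : (Nat.card G).factorization p = 1) (x y : G) (hx : orderOf x = p) (hy : orderOf y = p) :
    ∃ g : G, g * y * g⁻¹ ∈ Subgroup.zpowers x := by
  let P : Sylow p G := Sylow.ofCard (Subgroup.zpowers x) (by rw [Nat.card_zpowers, hx, hfac, pow_one])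
  let Q : Sylow p G := Sylow.ofCard (Subgroup.zpowers y) (by rw [Nat.card_zpowers, hy, hfac, pow_one])
  obtain ⟨g, hg⟩ := MulAction.exists_smul_eq G Q P
  refine ⟨g, ?_⟩
  have h2 : y ∈ (Q : Subgroup G) := Subgroup.mem_zpowers y
  have h3 : MulAut.conj g • y ∈ ((g • Q : Sylow p G) : Subgroup G) := by
    rw [Sylow.coe_subgroup_smul]
    exact Subgroup.smul_mem_pointwise_smul _ _ _ h2
  rw [hg] at h3
  exact h3

theorem XJ_pow7 : XJ ^ 7 = 1 := by
  rw [XJ, el_pow inJ_X 7 (inJ_powC inJ_X 7)]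
  exact el_eq_one _ (by decide +kernel)

theorem orderOf_XJ : orderOf XJ = 7 :=
  orderOf_eq_prime XJ_pow7 (el_ne_one _ (by decide +kernel))

/-- an element of order 6 normalising `⟨X⟩`. -/
def nc : ℕ := evalW [true, true, false, false, true, false, true, false, false, false, false, true, false, false,
  true, false, true, false, true]

theorem inJ_n : InJ nc := inJ_evalW _

theorem XJ_pow_conj_aux (k m : ℕ) (h : mulC (powC nc m) (powC Xc k) = mulC Xc (powC nc m)) :
    ∃ b : ↥Cfsg.Spor.J1, b * XJ ^ k * b⁻¹ = XJ := by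
  refine ⟨el (powC nc m) (inJ_powC inJ_n m), ?_⟩
  rw [mul_inv_eq_iff_eq_mul, XJ, el_pow inJ_X k (inJ_powC inJ_X k), el_mul, el_mul]
  exact el_congr _ _ h

theorem XJ_pow_conj (k : ℕ) (h1 : 1 ≤ k) (h7 : k < 7) : ∃ b : ↥Cfsg.Spor.J1, b * XJ ^ k * b⁻¹ = XJ := by
  interval_cases k
  · exact XJ_pow_conj_aux 1 0 (by decide +kernel)
  · exact XJ_pow_conj_aux 2 2 (by decide +kernel)
  · exact XJ_pow_conj_aux 3 1 (by decide +kernel)
  · exact XJ_pow_conj_aux 4 4 (by decide +kernel)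
  · exact XJ_pow_conj_aux 5 5 (by decide +kernel)
  · exact XJ_pow_conj_aux 6 3 (by decide +kernel)

/-- value of a word in `X` (`false`) and `t` (`true`). -/
def evalT : List Bool → ℕ
  | [] => oneC
  | b :: l => mulC (cond b tc Xc) (evalT l)

theorem inJ_evalT : ∀ l : List Bool, InJ (evalT l)
  | [] => inJ_one
  | true :: l => inJ_t.mul (inJ_evalT l)
  | false :: l => inJ_X.mul (inJ_evalT l)

theorem fix_evalT (χ : MulAut ↥Cfsg.Spor.J1) (hX : χ XJ = XJ) (ht : χ tJ = tJ) :
    ∀ l : List Bool, χ (el (evalT l) (inJ_evalT l)) = el (evalT l) (inJ_evalT l)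
  | [] => by
    have : el (evalT []) (inJ_evalT []) = 1 := el_eq_one _ rfl
    rw [this, map_one]
  | true :: l => by
    have : el (evalT (true :: l)) (inJ_evalT (true :: l)) = tJ * el (evalT l) (inJ_evalT l) := by
      rw [tJ, el_mul]; rfl
    rw [this, map_mul, ht, fix_evalT χ hX ht l]
  | false :: l => by
    have : el (evalT (false :: l)) (inJ_evalT (false :: l)) = XJ * el (evalT l) (inJ_evalT l) := by
      rw [XJ, el_mul]; rfl
    rw [this, map_mul, hX, fix_evalT χ hX ht l]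

def yw : List Bool := [false, false, false, false, true, false, true, false, true, false, true, false, false, true,
  false, false, true, false, false, false, true, false, false, true, false, true, false, false, false, false, false]

theorem eq_one_of_fix (χ : MulAut ↥Cfsg.Spor.J1) (hX : χ XJ = XJ) (ht : χ tJ = tJ) : χ = 1 := by
  have hY : χ YJ = YJ := by
    have : YJ = el (evalT yw) (inJ_evalT yw) := el_congr _ _ (by decide +kernel)
    rw [this]; exact fix_evalT χ hX ht yw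
  have h : χ.toMonoidHom = MonoidHom.id _ := by
    apply MonoidHom.eq_of_eqOn_dense closure_XY
    intro g hg
    rcases hg with rfl | rfl
    · exact hX
    · exact hY
  apply MulEquiv.ext
  intro g
  exact DFunLike.congr_fun h g

theorem word_rel : (XJ ^ 5 * tJ * (XJ * tJ)) * (XJ ^ 5 * tJ * (XJ * tJ)) = 1 := by
  rw [XJ, tJ, el_pow inJ_X 5 (inJ_powC inJ_X 5), el_mul, el_mul, el_mul, el_mul]
  exact el_eq_one _ (by decide +kernel)

theorem aut_inner (φ : MulAut ↥Cfsg.Spor.J1) : φ ∈ (MulAut.conj : ↥Cfsg.Spor.J1 →* MulAut ↥Cfsg.Spor.J1).range := by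
  have hfac : (Nat.card ↥Cfsg.Spor.J1).factorization 7 = 1 := by
    rw [card_J1, show 175560 = 7 ^ 1 * 25080 by norm_num,
      Nat.factorization_mul (by norm_num) (by norm_num), Finsupp.add_apply,
      Nat.Prime.factorization_pow (by norm_num)]
    simp [Nat.factorization_eq_zero_of_not_dvd (by norm_num : ¬ 7 ∣ 25080)]
  -- step A
  have hA : ∃ a : ↥Cfsg.Spor.J1, a * φ XJ * a⁻¹ = XJ := by
    have ho : orderOf (φ XJ) = 7 := by rw [MulEquiv.orderOf_eq, orderOf_XJ]
    obtain ⟨g, hg⟩ := conj_mem_zpowers 7 hfac XJ (φ XJ) orderOf_XJ ho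
    obtain ⟨k, hk⟩ := Subgroup.mem_zpowers_iff.1 hg
    have hk' : XJ ^ (k % 7).toNat = g * φ XJ * g⁻¹ := by
      rw [← hk, ← zpow_natCast, Int.toNat_of_nonneg (Int.emod_nonneg _ (by norm_num))]
      have := zpow_mod_orderOf XJ k
      rw [orderOf_XJ] at this
      exact this
    have hlt : (k % 7).toNat < 7 := by
      have := Int.emod_lt_of_pos k (by norm_num : (0 : ℤ) < 7)
      omega
    have hne : 1 ≤ (k % 7).toNat := by
      by_contra h0
      have h00 : (k % 7).toNat = 0 := by omega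
      rw [h00, pow_zero] at hk'
      have : φ XJ = 1 := by
        have e : φ XJ = g⁻¹ * (g * φ XJ * g⁻¹) * g := by group
        rw [e, ← hk']; group
      rw [this, orderOf_one] at ho
      norm_num at ho
    obtain ⟨b, hb⟩ := XJ_pow_conj _ hne hlt
    refine ⟨b * g, ?_⟩
    rw [hk'] at hb
    have e : b * g * φ XJ * (b * g)⁻¹ = b * (g * φ XJ * g⁻¹) * b⁻¹ := by group
    rw [e]; exact hb
  obtain ⟨a, ha⟩ := hA
  set ψ : MulAut ↥Cfsg.Spor.J1 := MulAut.conj a * φ with hψ
  have hψX : ψ XJ = XJ := by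
    rw [hψ, MulAut.mul_apply, MulAut.conj_apply, ha]
  -- step B
  have htt : tJ * tJ = 1 := by rw [← pow_two]; exact tJ_sq
  have hs2 : ψ tJ * ψ tJ = 1 := by rw [← map_mul, htt, map_one]
  have hs1 : ψ tJ ≠ 1 := by
    intro h
    apply tJ_ne_one
    apply ψ.injective
    rw [h, map_one]
  obtain ⟨i, hi, hcode⟩ := invol_code (ψ tJ) hs2 hs1
  have hin : InJ (sU i) := ⟨val_mulC _ _, _, (ψ tJ).2, hcode⟩
  have hel : ψ tJ = el (sU i) hin := by
    apply ext_val
    rw [hcode, el_val]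
  have hrel : (XJ ^ 5 * ψ tJ * (XJ * ψ tJ)) * (XJ ^ 5 * ψ tJ * (XJ * ψ tJ)) = 1 := by
    have := congrArg ψ word_rel
    simpa only [map_mul, map_pow, map_one, hψX] using this
  have hw : mulC (wS (sU i)) (wS (sU i)) = oneC := by
    rw [hel, XJ, el_pow inJ_X 5 (inJ_powC inJ_X 5), el_mul, el_mul, el_mul, el_mul] at hrel
    apply eq_of_toM_eq (canon_mulC _ _) canon_one
    have := congrArg (fun x : ↥Cfsg.Spor.J1 => ((x : GL (Fin 7) (ZMod 11)) : M7)) hrel
    simp only [el_val] at this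
    rw [toM_oneC]
    exact this
  have hgood := (U_out i hi).2.2 hw
  have hk : ∃ k ≤ 7, sU i = goodc k := by
    simp only [goodL, List.mem_cons, List.not_mem_nil, or_false] at hgood
    rcases hgood with h | h | h | h | h | h | h
    exacts [⟨0, by norm_num, h⟩, ⟨1, by norm_num, h⟩, ⟨2, by norm_num, h⟩, ⟨3, by norm_num, h⟩,
      ⟨4, by norm_num, h⟩, ⟨5, by norm_num, h⟩, ⟨6, by norm_num, h⟩]
  obtain ⟨k, hk7, hk⟩ := hk
  have hψt : ψ tJ = XJ ^ k * tJ * (XJ ^ k)⁻¹ := by
    have h1 : (XJ ^ k)⁻¹ = XJ ^ (7 - k) := by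
      apply inv_eq_of_mul_eq_one_right
      rw [← pow_add, Nat.add_sub_cancel' hk7, XJ_pow7]
    rw [hel, h1, XJ, tJ, el_pow inJ_X k (inJ_powC inJ_X k), el_pow inJ_X (7 - k) (inJ_powC inJ_X (7 - k)),
      el_mul, el_mul]
    exact el_congr _ _ hk
  -- step C
  have hχ : MulAut.conj (XJ ^ k)⁻¹ * ψ = 1 := by
    apply eq_one_of_fix
    · rw [MulAut.mul_apply, hψX, MulAut.conj_apply]
      have : Commute (XJ ^ k) XJ := (Commute.refl XJ).pow_left k
      rw [inv_inv, mul_assoc, ← this.eq]; group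
    · rw [MulAut.mul_apply, hψt, MulAut.conj_apply]; group
  refine ⟨((XJ ^ k)⁻¹ * a)⁻¹, ?_⟩
  rw [map_inv, map_mul, inv_eq_iff_mul_eq_one, mul_assoc]
  exact hχ

end Cfsg.Agent.Lib.Helper93.J1
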