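import Cfsg.Agent.Lib.Helper93.J1Cert

/-!
# The element orders of the Janko group `J₁`
-/

set_option autoImplicit false

namespace Cfsg.Agent.Lib.Helper93.J1

/-- `c` is the code of an element of `J₁`. -/
def InJ (c : ℕ) : Prop := Val c ∧ ∃ g ∈ Cfsg.Spor.J1, ((g : GL (Fin 7) (ZMod 11)) : M7) = toM c

theorem InJ.mul {a b : ℕ} (ha : InJ a) (hb : InJ b) : InJ (mulC a b) := by
  obtain ⟨va, g, hg, eg⟩ := ha
  obtain ⟨vb, h, hh, eh⟩ := hb
  refine ⟨val_mulC a b, g * h, mul_mem hg hh, ?_⟩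
  rw [toM_mulC va vb, ← eg, ← eh]; rfl

theorem inJ_X : InJ Xc :=
  ⟨val_Xc, Cfsg.Spor.jankoX, Subgroup.subset_closure (by simp), by rw [toM_Xc]; rfl⟩

theorem inJ_Y : InJ Yc :=
  ⟨val_Yc, Cfsg.Spor.jankoY, Subgroup.subset_closure (by simp), by rw [toM_Yc]; rfl⟩

theorem inJ_one : InJ oneC := ⟨val_oneC, 1, one_mem _, by rw [toM_oneC]; rfl⟩

/-- powers of codes. -/
def powC (a : ℕ) : ℕ → ℕ
  | 0 => oneC
  | n + 1 => mulC (powC a n) a

theorem val_powC (a n : ℕ) : Val (powC a n) := by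
  cases n with
  | zero => exact val_oneC
  | succ n => exact val_mulC _ _

theorem toM_powC {a : ℕ} (ha : Val a) (n : ℕ) : toM (powC a n) = toM a ^ n := by
  induction n with
  | zero => rw [pow_zero]; exact toM_oneC
  | succ n ih => rw [pow_succ, ← ih]; exact toM_mulC (val_powC a n) ha

theorem exists_order (c n : ℕ) (hc : InJ c) (hn : 0 < n) (h1 : toM (powC c n) = 1)
    (h2 : ∀ p : ℕ, p.Prime → p ∣ n → toM (powC c (n / p)) ≠ 1) :
    ∃ g : ↥Cfsg.Spor.J1, orderOf g = n := by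
  obtain ⟨hv, g, hg, e⟩ := hc
  refine ⟨⟨g, hg⟩, ?_⟩
  rw [← Subgroup.orderOf_coe]
  apply orderOf_eq_of_pow_and_pow_div_prime hn
  · apply Units.ext
    rw [Units.val_pow_eq_pow_val, e, ← toM_powC hv, h1]; rfl
  · intro p hp hd h
    apply h2 p hp hd
    rw [toM_powC hv, ← e, ← Units.val_pow_eq_pow_val, h]; rfl

theorem ex7 : ∃ g : ↥Cfsg.Spor.J1, orderOf g = 7 := by
  apply exists_order Xc 7 inJ_X (by norm_num) (by decide +kernel)
  intro p hp hd
  have : p = 7 := (Nat.prime_dvd_prime_iff_eq hp (by norm_num)).1 hd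
  subst this
  decide +kernel

theorem ex11 : ∃ g : ↥Cfsg.Spor.J1, orderOf g = 11 := by
  apply exists_order (mulC (mulC Xc Yc) Yc) 11 ((inJ_X.mul inJ_Y).mul inJ_Y) (by norm_num) (by decide +kernel)
  intro p hp hd
  have : p = 11 := (Nat.prime_dvd_prime_iff_eq hp (by norm_num)).1 hd
  subst this
  decide +kernel

theorem ex19 : ∃ g : ↥Cfsg.Spor.J1, orderOf g = 19 := by
  apply exists_order (mulC (mulC (mulC Xc Xc) Xc) Yc) 19 (((inJ_X.mul inJ_X).mul inJ_X).mul inJ_Y)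
    (by norm_num) (by decide +kernel)
  intro p hp hd
  have : p = 19 := (Nat.prime_dvd_prime_iff_eq hp (by norm_num)).1 hd
  subst this
  decide +kernel

theorem ex10 : ∃ g : ↥Cfsg.Spor.J1, orderOf g = 10 := by
  apply exists_order (mulC Xc Yc) 10 (inJ_X.mul inJ_Y) (by norm_num) (by decide +kernel)
  intro p hp hd
  have hle : p ≤ 10 := Nat.le_of_dvd (by norm_num) hd
  interval_cases p <;> first | (exfalso; revert hp; decide) | (exfalso; revert hd; decide) | decide +kernel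

theorem ex6 : ∃ g : ↥Cfsg.Spor.J1, orderOf g = 6 := by
  apply exists_order (mulC (mulC (mulC Xc Yc) Yc) Yc) 6 (((inJ_X.mul inJ_Y).mul inJ_Y).mul inJ_Y)
    (by norm_num) (by decide +kernel)
  intro p hp hd
  have hle : p ≤ 6 := Nat.le_of_dvd (by norm_num) hd
  interval_cases p <;> first | (exfalso; revert hp; decide) | (exfalso; revert hd; decide) | decide +kernel

theorem ex15 : ∃ g : ↥Cfsg.Spor.J1, orderOf g = 15 := by
  apply exists_order (mulC (mulC (mulC (mulC (mulC (mulC (mulC (mulC Xc Xc) Yc) Yc) Xc) Yc) Xc) Yc) Yc) 15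
    ((((((((inJ_X.mul inJ_X).mul inJ_Y).mul inJ_Y).mul inJ_X).mul inJ_Y).mul inJ_X).mul inJ_Y).mul inJ_Y)
    (by norm_num) (by decide +kernel)
  intro p hp hd
  have hle : p ≤ 15 := Nat.le_of_dvd (by norm_num) hd
  interval_cases p <;> first | (exfalso; revert hp; decide) | (exfalso; revert hd; decide) | decide +kernel

/-- the spectrum of `J₁`. -/
theorem range_orderOf :
    Set.range (orderOf : ↥Cfsg.Spor.J1 → ℕ) = ↑({1, 2, 3, 5, 6, 7, 10, 11, 15, 19} : Finset ℕ) := by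
  apply Set.Subset.antisymm
  · rintro _ ⟨g, rfl⟩
    obtain ⟨n, hn, e⟩ := pow_eq_one (g : GL (Fin 7) (ZMod 11)) g.2
    have hd : orderOf g ∣ n := by
      rw [← Subgroup.orderOf_coe]; exact orderOf_dvd_of_pow_eq_one e
    have key : ∀ n ∈ [6, 7, 10, 11, 15, 19], Nat.divisors n ⊆ ({1, 2, 3, 5, 6, 7, 10, 11, 15, 19} : Finset ℕ) := by
      decide +kernel
    have hn0 : n ≠ 0 := by
      rintro rfl
      simp at hn
    exact Finset.mem_coe.2 (key n hn (Nat.mem_divisors.2 ⟨hd, hn0⟩))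
  · intro n hn
    obtain ⟨g6, h6⟩ := ex6
    obtain ⟨g10, h10⟩ := ex10
    simp only [Finset.coe_insert, Finset.coe_singleton, Set.mem_insert_iff, Set.mem_singleton_iff] at hn
    rcases hn with rfl | rfl | rfl | rfl | rfl | rfl | rfl | rfl | rfl | rfl
    · exact ⟨1, orderOf_one⟩
    · exact ⟨g6 ^ 3, by rw [orderOf_pow' _ (by norm_num), h6]; rfl⟩
    · exact ⟨g6 ^ 2, by rw [orderOf_pow' _ (by norm_num), h6]; rfl⟩
    · exact ⟨g10 ^ 2, by rw [orderOf_pow' _ (by norm_num), h10]; rfl⟩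
    · exact ⟨g6, h6⟩
    · exact ex7
    · exact ⟨g10, h10⟩
    · exact ex11
    · exact ex15
    · exact ex19

end Cfsg.Agent.Lib.Helper93.J1
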