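import Cfsg.Agent.Lib.Helper93.J1Simple

/-!
# A Sylow 2-subgroup of `J₁`, and the conjugacy of the involutions
-/

set_option autoImplicit false

namespace Cfsg.Agent.Lib.Helper93.J1

/-- an element of order 7 normalising a Sylow 2-subgroup which contains `t`. -/
def gc : ℕ := evalW [true, false, false, true, false, false, true, true, false, false, false]

theorem inJ_g : InJ gc := inJ_evalW _

noncomputable def gJ : ↥Cfsg.Spor.J1 := el gc inJ_g

theorem gJ_pow7 : gJ ^ 7 = 1 := by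
  rw [gJ, el_pow inJ_g 7 (inJ_powC inJ_g 7)]
  exact el_eq_one _ (by decide +kernel)

/-- the conjugates of `t` under `g`. -/
noncomputable def sJ (i : ℕ) : ↥Cfsg.Spor.J1 := gJ ^ i * tJ * (gJ ^ i)⁻¹

def sc (i : ℕ) : ℕ := mulC (mulC (powC gc i) tc) (powC gc (7 - i))

theorem inJ_s (i : ℕ) : InJ (sc i) := ((inJ_powC inJ_g i).mul inJ_t).mul (inJ_powC inJ_g (7 - i))

theorem sJ_eq (i : ℕ) (hi : i ≤ 7) : sJ i = el (sc i) (inJ_s i) := by
  have h1 : (gJ ^ i)⁻¹ = gJ ^ (7 - i) := by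
    apply inv_eq_of_mul_eq_one_right
    rw [← pow_add, Nat.add_sub_cancel' hi, gJ_pow7]
  unfold sJ
  rw [h1, gJ, tJ, el_pow inJ_g i (inJ_powC inJ_g i), el_pow inJ_g (7 - i) (inJ_powC inJ_g (7 - i)),
    el_mul, el_mul]
  rfl

theorem sc_comm : ∀ i < 7, ∀ j < 7, mulC (sc i) (sc j) = mulC (sc j) (sc i) := by decide +kernel

theorem sJ_comm (i : ℕ) (hi : i < 7) (j : ℕ) (hj : j < 7) : sJ i * sJ j = sJ j * sJ i := by
  rw [sJ_eq i hi.le, sJ_eq j hj.le, el_mul, el_mul]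
  exact el_congr _ _ (sc_comm i hi j hj)

theorem sc_rel : ∀ i < 4, sc (i + 3) = mulC (sc i) (sc (i + 1)) := by decide +kernel

theorem sJ_rel (i : ℕ) (hi : i < 4) : sJ (i + 3) = sJ i * sJ (i + 1) := by
  rw [sJ_eq i (by omega), sJ_eq (i + 1) (by omega), sJ_eq (i + 3) (by omega), el_mul]
  exact el_congr _ _ (sc_rel i hi)

theorem sJ_sq (i : ℕ) : sJ i * sJ i = 1 := by
  have h : tJ * tJ = 1 := by rw [← pow_two]; exact tJ_sq
  unfold sJ
  calc gJ ^ i * tJ * (gJ ^ i)⁻¹ * (gJ ^ i * tJ * (gJ ^ i)⁻¹) = gJ ^ i * (tJ * tJ) * (gJ ^ i)⁻¹ := by group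
    _ = 1 := by rw [h]; group

theorem closure_exp2 {G : Type*} [Group G] (S : Set G) (h2 : ∀ s ∈ S, s * s = 1)
    (hc : ∀ s ∈ S, ∀ u ∈ S, s * u = u * s) : ∀ x ∈ Subgroup.closure S, x * x = 1 := by
  have key : ∀ x ∈ Subgroup.closure S, x * x = 1 ∧ ∀ s ∈ S, s * x = x * s := by
    have stepm : ∀ x ∈ S, ∀ y : G, (y * y = 1 ∧ ∀ s ∈ S, s * y = y * s) →
        (x * y * (x * y) = 1 ∧ ∀ s ∈ S, s * (x * y) = x * y * s) := by
      intro x hx y ih
      constructor
      · calc x * y * (x * y) = x * (y * x) * y := by group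
          _ = x * (x * y) * y := by rw [ih.2 x hx]
          _ = (x * x) * (y * y) := by group
          _ = 1 := by rw [h2 x hx, ih.1, one_mul]
      · intro s hs
        calc s * (x * y) = (s * x) * y := by group
          _ = x * (s * y) := by rw [hc s hs x hx]; group
          _ = x * y * s := by rw [ih.2 s hs]; group
    intro x hx
    induction hx using Subgroup.closure_induction_left with
    | one => exact ⟨by simp, fun s _ => by simp⟩
    | mul_left x hx y _ ih => exact stepm x hx y ih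
    | inv_mul_cancel x hx y _ ih =>
      have : x⁻¹ = x := inv_eq_of_mul_eq_one_left (h2 x hx)
      rw [this]
      exact stepm x hx y ih
  exact fun x hx => (key x hx).1

/-- the Sylow 2-subgroup. -/
noncomputable def EJ : Subgroup ↥Cfsg.Spor.J1 := Subgroup.closure {sJ 0, sJ 1, sJ 2}

theorem sJ_mem (i : ℕ) (hi : i < 7) : sJ i ∈ EJ := by
  have m0 : sJ 0 ∈ EJ := Subgroup.subset_closure (by simp)
  have m1 : sJ 1 ∈ EJ := Subgroup.subset_closure (by simp)
  have m2 : sJ 2 ∈ EJ := Subgroup.subset_closure (by simp)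
  have r3 : sJ 3 = sJ 0 * sJ 1 := sJ_rel 0 (by norm_num)
  have r4 : sJ 4 = sJ 1 * sJ 2 := sJ_rel 1 (by norm_num)
  have r5 : sJ 5 = sJ 2 * sJ 3 := sJ_rel 2 (by norm_num)
  have r6 : sJ 6 = sJ 3 * sJ 4 := sJ_rel 3 (by norm_num)
  have m3 : sJ 3 ∈ EJ := by rw [r3]; exact mul_mem m0 m1
  have m4 : sJ 4 ∈ EJ := by rw [r4]; exact mul_mem m1 m2
  have m5 : sJ 5 ∈ EJ := by rw [r5]; exact mul_mem m2 m3
  have m6 : sJ 6 ∈ EJ := by rw [r6]; exact mul_mem m3 m4
  interval_cases i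
  exacts [m0, m1, m2, m3, m4, m5, m6]

theorem EJ_exp2 : ∀ x ∈ EJ, x * x = 1 := by
  apply closure_exp2
  · intro s hs
    rcases hs with rfl | rfl | rfl <;> exact sJ_sq _
  · intro s hs u hu
    rcases hs with rfl | rfl | rfl <;> rcases hu with rfl | rfl | rfl <;>
      exact sJ_comm _ (by norm_num) _ (by norm_num)

/-- the eight elements. -/
def ec (k : ℕ) : ℕ := Nat.casesOn k oneC sc

theorem ec_inj : ∀ k < 8, ∀ l < 8, toM (ec k) = toM (ec l) → k = l := by decide +kernel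

noncomputable def eJ (k : ℕ) : ↥Cfsg.Spor.J1 := Nat.casesOn k 1 sJ

theorem eJ_val (k : ℕ) (hk : k < 8) : (((eJ k : ↥Cfsg.Spor.J1) : GL (Fin 7) (ZMod 11)) : M7) = toM (ec k) := by
  cases k with
  | zero => show _ = toM oneC; rw [toM_oneC]; rfl
  | succ i =>
    show (((sJ i : ↥Cfsg.Spor.J1) : GL (Fin 7) (ZMod 11)) : M7) = toM (sc i)
    rw [sJ_eq i (by omega), el_val]

theorem eJ_mem (k : ℕ) (hk : k < 8) : eJ k ∈ EJ := by
  cases k with
  | zero => exact one_mem _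
  | succ i => exact sJ_mem i (by omega)

theorem eJ_bij : Nat.card EJ = 8 ∧
    Function.Bijective (fun k : Fin 8 => (⟨eJ k, eJ_mem k k.2⟩ : EJ)) := by
  have hinj : Function.Injective (fun k : Fin 8 => (⟨eJ k, eJ_mem k k.2⟩ : EJ)) := by
    intro a b hab
    have h1 : eJ a = eJ b := congrArg Subtype.val hab
    apply Fin.ext
    apply ec_inj a a.2 b b.2
    rw [← eJ_val a a.2, ← eJ_val b b.2, h1]
  have hge : 8 ≤ Nat.card EJ := by
    have := Nat.card_le_card_of_injective _ hinj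
    simpa using this
  have hp : IsPGroup 2 EJ := by
    intro x
    refine ⟨1, ?_⟩
    apply Subtype.ext
    have := EJ_exp2 x x.2
    simpa [pow_two] using this
  obtain ⟨n, hn⟩ := hp.exists_card_eq
  have hd : 2 ^ n ∣ 2 ^ 3 * 21945 := by
    have := Subgroup.card_subgroup_dvd_card EJ
    rw [card_J1, hn] at this
    exact this
  have hd2 : 2 ^ n ∣ 2 ^ 3 := (Nat.Coprime.pow_left n (by norm_num : Nat.Coprime 2 21945)).dvd_of_dvd_mul_right hd
  have hle : Nat.card EJ ≤ 8 := by rw [hn]; exact Nat.le_of_dvd (by norm_num) hd2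
  have hc : Nat.card EJ = 8 := le_antisymm hle hge
  refine ⟨hc, ?_⟩
  apply Function.Injective.bijective_of_nat_card_le hinj
  rw [hc]; simp

theorem card_EJ : Nat.card EJ = 8 := eJ_bij.1

theorem mem_EJ {x : ↥Cfsg.Spor.J1} (hx : x ∈ EJ) : x = 1 ∨ ∃ i < 7, x = sJ i := by
  obtain ⟨k, hk⟩ := eJ_bij.2.2 ⟨x, hx⟩
  have h1 : eJ k = x := congrArg Subtype.val hk
  obtain ⟨k, hk8⟩ := k
  cases k with
  | zero => left; exact h1.symm
  | succ i => right; exact ⟨i, by omega, h1.symm⟩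

/-- all involutions of `J₁` are conjugate. -/
theorem invol_conj (s : ↥Cfsg.Spor.J1) (hs : s * s = 1) (hs1 : s ≠ 1) : ∃ x : ↥Cfsg.Spor.J1, s = x * tJ * x⁻¹ := by
  have : Fact (Nat.Prime 2) := ⟨Nat.prime_two⟩
  have hfac : (Nat.card ↥Cfsg.Spor.J1).factorization 2 = 3 := by
    rw [card_J1, show 175560 = 2 ^ 3 * 21945 by norm_num,
      Nat.factorization_mul (by norm_num) (by norm_num), Finsupp.add_apply,
      Nat.Prime.factorization_pow Nat.prime_two]
    simp [Nat.factorization_eq_zero_of_not_dvd (by norm_num : ¬ 2 ∣ 21945)]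
  let P : Sylow 2 ↥Cfsg.Spor.J1 := Sylow.ofCard EJ (by rw [card_EJ, hfac]; norm_num)
  have hz : IsPGroup 2 (Subgroup.zpowers s) := by
    rw [IsPGroup.iff_card]
    refine ⟨1, ?_⟩
    rw [Nat.card_zpowers, pow_one]
    exact orderOf_eq_prime (by rw [pow_two]; exact hs) hs1
  obtain ⟨Q, hQ⟩ := hz.exists_le_sylow
  obtain ⟨y, hy⟩ := MulAction.exists_smul_eq ↥Cfsg.Spor.J1 Q P
  have h1 : y * s * y⁻¹ ∈ EJ := by
    have h2 : s ∈ (Q : Subgroup ↥Cfsg.Spor.J1) := hQ (Subgroup.mem_zpowers s)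
    have h3 : MulAut.conj y • s ∈ ((y • Q : Sylow 2 ↥Cfsg.Spor.J1) : Subgroup ↥Cfsg.Spor.J1) := by
      rw [Sylow.coe_subgroup_smul]
      exact Subgroup.smul_mem_pointwise_smul _ _ _ h2
    rw [hy] at h3
    exact h3
  rcases mem_EJ h1 with h | ⟨i, _, h⟩
  · exfalso
    apply hs1
    have : s = y⁻¹ * (y * s * y⁻¹) * y := by group
    rw [this, h]; group
  · refine ⟨y⁻¹ * gJ ^ i, ?_⟩
    have : s = y⁻¹ * (y * s * y⁻¹) * y := by group
    rw [this, h, sJ]; group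

end Cfsg.Agent.Lib.Helper93.J1
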